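import Mathlib

set_option autoImplicit false
universe u

open CategoryTheory CategoryTheory.Limits AlgebraicGeometry TensorProduct

namespace GeomRegInsepLib

/-- The affine chart `Spec (K ⊗ A) → X_K` over an affine open `Spec A` of `X`. -/
theorem exists_chart {k : Type u} [Field k] {X : Scheme.{u}} (f : X ⟶ Spec (CommRingCat.of k))
    (V : X.Opens) (hV : IsAffineOpen V) (K : Type u) [Field K] [Algebra k K] :
    letI : Algebra k Γ(X, V) := (Spec.preimage (hV.fromSpec ≫ f)).hom.toAlgebra
    ∃ θ : Spec (CommRingCat.of (K ⊗[k] Γ(X, V))) ⟶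
        pullback f (Spec.map (CommRingCat.ofHom (algebraMap k K))),
      IsOpenImmersion θ ∧
      Set.range θ = pullback.fst f (Spec.map (CommRingCat.ofHom (algebraMap k K))) ⁻¹' (V : Set X) := by
  letI : Algebra k Γ(X, V) := (Spec.preimage (hV.fromSpec ≫ f)).hom.toAlgebra
  let φ := Spec.preimage (hV.fromSpec ≫ f)
  have hφ : Spec.map φ = hV.fromSpec ≫ f := Spec.map_preimage _
  let g := Spec.map (CommRingCat.ofHom (algebraMap k K))
  have hsq : IsPullback
      (Spec.map (CommRingCat.ofHom
        (Algebra.TensorProduct.includeRight : Γ(X, V) →ₐ[k] K ⊗[k] Γ(X, V)).toRingHom))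
      (Spec.map (CommRingCat.ofHom (algebraMap K (K ⊗[k] Γ(X, V))))) (Spec.map φ) g :=
    (isPullback_SpecMap_of_isPushout _ _ _ _ (CommRingCat.isPushout_tensorProduct k K Γ(X, V))).flip
  let m := pullback.map (Spec.map φ) g f g hV.fromSpec (𝟙 _) (𝟙 _)
    (by rw [Category.comp_id]; exact hφ) (by simp)
  haveI : IsOpenImmersion m := inferInstance
  refine ⟨hsq.isoPullback.hom ≫ m, inferInstance, ?_⟩
  rw [Scheme.Hom.comp_base, TopCat.coe_comp, Set.range_comp,
    Set.range_eq_univ.mpr (ConcreteCategory.bijective_of_isIso hsq.isoPullback.hom.base).surjective,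
    Set.image_univ, Scheme.Pullback.range_map, hV.range_fromSpec]
  simp [g]

/-- Local rings of an open affine piece. -/
theorem nonempty_stalk_equiv {P : Scheme.{u}} {R : CommRingCat.{u}} (θ : Spec R ⟶ P) [IsOpenImmersion θ]
    (z : PrimeSpectrum R) : Nonempty (P.presheaf.stalk (θ z) ≃+* Localization.AtPrime z.asIdeal) :=
  ⟨((asIso (θ.stalkMap z)).commRingCatIsoToRingEquiv).trans
    (StructureSheaf.stalkIso R z).toRingEquiv.symm⟩

end GeomRegInsepLib
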