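import Mathlib
import Groth.Agent.CohenLib.RegularField
import Groth.Agent.CohenLib.GeomRed
import Groth.Agent.RegFlatLib.Basic
import Groth.Agent.S4677

set_option autoImplicit false
universe u

open TensorProduct

namespace GeomRegInsepLib

/-- A flat formally smooth Noetherian algebra over a regular ring is regular. -/
theorem isRegularRing_of_formallySmooth_flat (A B : Type u) [CommRing A] [IsRegularRing A] [CommRing B]
    [IsNoetherianRing B] [Algebra A B] [Algebra.FormallySmooth A B] [Module.Flat A B] :
    IsRegularRing B := by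
  refine isRegularRing_iff.2 fun q hq => ?_
  let p := q.under A
  let Bq := Localization.AtPrime q
  let _ : Algebra (Localization.AtPrime p) Bq :=
    (Localization.localRingHom p q (algebraMap A B) rfl).toAlgebra
  have : IsScalarTower A (Localization.AtPrime p) Bq :=
    IsScalarTower.of_algebraMap_eq fun a => (Localization.localRingHom_to_map p q _ rfl a).symm
  have : IsLocalHom (algebraMap (Localization.AtPrime p) Bq) :=
    Localization.isLocalHom_localRingHom p q _ rfl
  have : IsNoetherianRing Bq := IsLocalization.isNoetherianRing q.primeCompl _ inferInstance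
  have : Module.Flat A Bq := Module.Flat.trans A B Bq
  have : Module.Flat (Localization.AtPrime p) Bq :=
    (Module.flat_iff_of_isLocalization (Localization.AtPrime p) p.primeCompl Bq).2 inferInstance
  have := (isRegularRing_iff.1 (inferInstance : IsRegularRing A)) p
  have : Algebra.FormallySmooth B Bq := Algebra.FormallySmooth.of_isLocalization q.primeCompl
  have : Algebra.FormallySmooth A Bq := Algebra.FormallySmooth.comp A B Bq
  have : Algebra.FormallySmooth (Localization.AtPrime p) Bq :=
    Algebra.FormallySmooth.localization_base p.primeCompl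
  exact CohenLib.isRegularLocalRing_of_formallySmooth_flat (Localization.AtPrime p) Bq

/-- Regularity descends along faithfully flat ring maps. -/
theorem isRegularRing_of_faithfullyFlat (R S : Type u) [CommRing R] [CommRing S] [IsRegularRing S]
    [Algebra R S] [Module.FaithfullyFlat R S] : IsRegularRing R := by
  have : IsNoetherianRing R := by
    rw [isNoetherianRing_iff, isNoetherian_iff']
    exact (OrderEmbedding.ofMapLEIff (fun I : Ideal R => I.map (algebraMap R S))
      (fun I J => ⟨fun hIJ => by
        have := Ideal.comap_mono (f := algebraMap R S) hIJ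
        rwa [Ideal.comap_map_eq_self_of_faithfullyFlat, Ideal.comap_map_eq_self_of_faithfullyFlat] at this,
        Ideal.map_mono⟩)).wellFoundedGT
  refine isRegularRing_iff.2 fun p hp => ?_
  obtain ⟨Q, hQ⟩ := PrimeSpectrum.comap_surjective_of_faithfullyFlat (A := R) (B := S) ⟨p, hp⟩
  let q := Q.asIdeal
  have hqp : p = q.comap (algebraMap R S) := (congrArg PrimeSpectrum.asIdeal hQ).symm
  let _ : Algebra (Localization.AtPrime p) (Localization.AtPrime q) :=
    (Localization.localRingHom p q (algebraMap R S) hqp).toAlgebra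
  have : IsScalarTower R (Localization.AtPrime p) (Localization.AtPrime q) :=
    IsScalarTower.of_algebraMap_eq fun a => (Localization.localRingHom_to_map p q _ hqp a).symm
  have : IsLocalHom (algebraMap (Localization.AtPrime p) (Localization.AtPrime q)) :=
    Localization.isLocalHom_localRingHom p q _ hqp
  have : Module.Flat R (Localization.AtPrime q) := Module.Flat.trans R S _
  have : Module.Flat (Localization.AtPrime p) (Localization.AtPrime q) :=
    (Module.flat_iff_of_isLocalization (Localization.AtPrime p) p.primeCompl _).2 inferInstance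
  have : IsNoetherianRing (Localization.AtPrime p) := IsLocalization.isNoetherianRing p.primeCompl _ inferInstance
  have := (isRegularRing_iff.1 (inferInstance : IsRegularRing S)) q
  exact RegFlatLib.isRegularLocalRing_of_flat (Localization.AtPrime p) (Localization.AtPrime q)

/-- If `k' ⊗ A` is regular for all finite purely inseparable `k'/k`, then `K ⊗ A` is regular for all
finitely generated field extensions `K/k`. -/
theorem isRegularRing_tensor {k : Type u} [Field k] (A : Type u) [CommRing A] [Algebra k A]
    (h : ∀ (k' : Type u) [Field k'] [Algebra k k'] [FiniteDimensional k k'] [IsPurelyInseparable k k'],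
      IsRegularRing (k' ⊗[k] A))
    (K : Type u) [Field K] [Algebra k K] [Algebra.EssFiniteType k K] :
    IsRegularRing (K ⊗[k] A) := by
  obtain ⟨k', _, _, _, _, hk'⟩ := Groth.Agent.S4677.result (k := k) (K := K)
  obtain ⟨m, hm⟩ := Ideal.exists_maximal (k' ⊗[k] K)
  haveI := hm
  letI := Ideal.Quotient.field m
  haveI : Algebra.IsGeometricallyReduced k' ((k' ⊗[k] K) ⧸ m) := hk' m hm
  haveI : Algebra.FormallySmooth k' ((k' ⊗[k] K) ⧸ m) :=
    CohenLib.formallySmooth_of_isGeometricallyReduced k' _
  haveI : Algebra.EssFiniteType (k' ⊗[k] K) ((k' ⊗[k] K) ⧸ m) := inferInstance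
  haveI : Algebra.EssFiniteType k' ((k' ⊗[k] K) ⧸ m) := Algebra.EssFiniteType.comp k' (k' ⊗[k] K) _
  let B := k' ⊗[k] A
  haveI : IsRegularRing B := h k'
  haveI : IsNoetherianRing (B ⊗[k'] ((k' ⊗[k] K) ⧸ m)) :=
    Algebra.EssFiniteType.isNoetherianRing B _
  haveI : IsRegularRing (B ⊗[k'] ((k' ⊗[k] K) ⧸ m)) := isRegularRing_of_formallySmooth_flat B _
  let φ : K →ₐ[k] (k' ⊗[k] K) ⧸ m :=
    (Ideal.Quotient.mkₐ k m).comp (Algebra.TensorProduct.includeRight : K →ₐ[k] k' ⊗[k] K)
  letI : Algebra K ((k' ⊗[k] K) ⧸ m) := φ.toRingHom.toAlgebra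
  haveI : IsScalarTower k K ((k' ⊗[k] K) ⧸ m) := IsScalarTower.of_algebraMap_eq fun r => (φ.commutes r).symm
  let e₁ : B ⊗[k'] ((k' ⊗[k] K) ⧸ m) ≃+* ((k' ⊗[k] K) ⧸ m) ⊗[k] A :=
    (Algebra.TensorProduct.comm k' B _).toRingEquiv.trans
      (Algebra.TensorProduct.cancelBaseChange k k' k' ((k' ⊗[k] K) ⧸ m) A).toRingEquiv
  let e₂ : (K ⊗[k] A) ⊗[K] ((k' ⊗[k] K) ⧸ m) ≃+* ((k' ⊗[k] K) ⧸ m) ⊗[k] A :=
    (Algebra.TensorProduct.comm K (K ⊗[k] A) _).toRingEquiv.trans
      (Algebra.TensorProduct.cancelBaseChange k K K ((k' ⊗[k] K) ⧸ m) A).toRingEquiv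
  haveI : IsRegularRing ((K ⊗[k] A) ⊗[K] ((k' ⊗[k] K) ⧸ m)) :=
    IsRegularRing.of_ringEquiv (e₁.trans e₂.symm)
  exact isRegularRing_of_faithfullyFlat (K ⊗[k] A) ((K ⊗[k] A) ⊗[K] ((k' ⊗[k] K) ⧸ m))

end GeomRegInsepLib
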